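import Mathlib
import Cfsg.Prelude.Def_Classical
import Cfsg.Agent.Lib.Helper1.S8U.Defs
import Cfsg.Agent.Lib.helper15.S5972.Defs

set_option autoImplicit false

/-!
# Project O9A (designer helper3): definitions for PART A of S2517 (10u).
`q` odd: every element order of `F^8 ⋊ Ω⁻₈(q)` (the frozen semidirect product `AffO F a b`) is an element order of `Ω₉(q)`.

* an element `(v, g)` of `F^ι ⋊ K` (`K ≤ GL ι F`, `char F = p`) has order `n = |g|` or `p n`, the latter iff `(1 + g + ⋯ + g^(n-1)) v ≠ 0` (rows AFFP, AFFR).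
* `n = m P`, `P = p^k`, `p ∤ m`: `1 + g + ⋯ + g^(n-1) = (∑_{a<m} (g^P)^a) (g - 1)^(P-1)`; if it is not zero then `ker (g^P - 1)` has dimension `≥ P` (rows GEOP, GEOK).
* `Ω⁻₈ → Ω₉`, `g ↦ ĝ = g ⊕ 1` on `F^9 = emb8 (F^8) ⟂ ⟨w9⟩` (rows EMB*, HAT*).
* `y = ĝ^P` is an isometry of `F^9` with `y^m = 1`, `det y = 1`, fixing a space of dimension `≥ P + 1`, in fact `≥ P + 2` by parity (rows FIXND, DETM, FIXODD); that space is
  nondegenerate and carries a unipotent isometry `z` with `(z - 1)^P ≠ 0`, `(z - 1)^(P+2) = 0` commuting with `y` (rows WITT, SKEW, CAY, HEART); `z` has order `p^(k+1)`, odd, so `z ∈ Ω₉`,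
  and `ĝ^P z ∈ Ω₉` has order `p n` (rows ZORD, LIFT, MAIN).

Vocabulary reused: helper1's S8U (`glAct`, `AffK`, `geoM`, `geoE`, `MI8`, `Aniso`), helper15's S5972 (`stdO`), helper16's `qfOdd`, `qfMinus`.
-/

namespace Cfsg.Agent.Lib.helper3.O9A

open Matrix Module Cfsg.Agent.Lib.Helper1.S8U

/-- the index type of the `9`-dimensional space -/
abbrev OI9 := Unit ⊕ (Fin 4 ⊕ Fin 4)

/-- the action of `Ω⁻₈` on `F^8` in the frozen statement S2517 -/
noncomputable abbrev frozAct (F : Type*) [Field F] (a b : F) :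
    ↥(Cfsg.Omega F (Cfsg.quadFormMinus 3 F a b)) →* MulAut (Multiplicative (MI8 → F)) :=
  (MulAutMultiplicative (MI8 → F)).symm.toMonoidHom.comp
    ((DistribMulAction.toAddAut (LinearMap.GeneralLinearGroup F (MI8 → F)) (MI8 → F)).comp
      (Matrix.GeneralLinearGroup.toLin.toMonoidHom.comp
        ((Cfsg.isometryGroup F (Cfsg.quadFormMinus 3 F a b)).subtype.comp
          (Cfsg.Omega F (Cfsg.quadFormMinus 3 F a b)).subtype)))

/-- the frozen semidirect product `F^8 ⋊ Ω⁻₈` of S2517 -/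
abbrev AffO (F : Type*) [Field F] (a b : F) :=
  SemidirectProduct (Multiplicative (MI8 → F)) ↥(Cfsg.Omega F (Cfsg.quadFormMinus 3 F a b)) (frozAct F a b)

/-- `Ω⁻₈` as a subgroup of `GL` -/
abbrev Om8 (F : Type*) [Field F] (a b : F) : Subgroup (GL MI8 F) :=
  Cfsg.Geo.omegaGL (Cfsg.quadFormMinus 3 F a b)

/-- `Ω₉` as a subgroup of `GL` -/
abbrev Om9 (F : Type*) [Field F] : Subgroup (GL OI9 F) :=
  Cfsg.Geo.omegaGL (Cfsg.quadFormOdd 4 F)

/-- `δ = a²/4 - b`, minus the discriminant of `z₁² + a z₁ z₂ + b z₂²` up to squares -/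
noncomputable def dl {F : Type*} [Field F] (a b : F) : F := a ^ 2 / 4 - b

/-- the isometric embedding `(F^8, quadFormMinus 3 F a b) → (F^9, quadFormOdd 4 F)`:
`(x, y, z₁, z₂) ↦ (x₀ = z₁ + (a/2) z₂; x_i, y_i (i < 3); x₃ = z₂, y₃ = - δ z₂)` -/
noncomputable def emb8 {F : Type*} [Field F] (a b : F) : (MI8 → F) →ₗ[F] (OI9 → F) where
  toFun v := fun i =>
    match i with
    | Sum.inl _ => v (Sum.inr 0) + a / 2 * v (Sum.inr 1)
    | Sum.inr (Sum.inl j) =>
        if h : (j : ℕ) < 3 then v (Sum.inl (Sum.inl ⟨j, h⟩)) else v (Sum.inr 1)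
    | Sum.inr (Sum.inr j) =>
        if h : (j : ℕ) < 3 then v (Sum.inl (Sum.inr ⟨j, h⟩)) else - dl a b * v (Sum.inr 1)
  map_add' u v := by
    funext i
    rcases i with _ | j | j
    · simp only [Pi.add_apply]; ring
    · by_cases h : (j : ℕ) < 3 <;> simp [h]
    · by_cases h : (j : ℕ) < 3 <;> simp [h, mul_add]
  map_smul' c v := by
    funext i
    rcases i with _ | j | j
    · simp only [Pi.smul_apply, smul_eq_mul, RingHom.id_apply]; ring
    · by_cases h : (j : ℕ) < 3 <;> simp [h]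
    · by_cases h : (j : ℕ) < 3 <;> simp [h, mul_left_comm]

/-- the vector `w = (x₃ = 1, y₃ = δ)` spanning the orthogonal complement of `emb8 (F^8)`; `Q(w) = δ` -/
noncomputable def w9 {F : Type*} [Field F] (a b : F) : OI9 → F := fun i =>
  match i with
  | Sum.inl _ => 0
  | Sum.inr (Sum.inl j) => if (j : ℕ) = 3 then 1 else 0
  | Sum.inr (Sum.inr j) => if (j : ℕ) = 3 then dl a b else 0

end Cfsg.Agent.Lib.helper3.O9A
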